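import Cfsg.Agent.Lib.Recog.SporBound.Sound

set_option autoImplicit false
set_option maxRecDepth 20000

/-! Generated certificate data, piece 0: Fi23 tower, cosets of a parabolic in the next <bc>. -/

namespace CfsgLib.Recog.SporBound.TriF1
open CfsgLib.Recog.SporBound

noncomputable def ft0 : Q (ℕ) := (.leaf 0x40000520000300005100002000041000010000320000000002200000000011)
noncomputable def ct0 : Q (ℕ) := (.leaf 0x50000400003000020000100000)
noncomputable def st0 : Q (List ℕ) := (.leaf [0x3000010000000002000040000000005000050000000002])
noncomputable def et0 : Q (List ℕ) := (.leaf [0x100001, 0x10000100002, 0x100000, 0x20000100003, 0x30000100004, 0x10000100000, 0x40000100005, 0x20000100001, 0x30000100002, 0x50000100005, 0x40000100003, 0x50000100004])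

end CfsgLib.Recog.SporBound.TriF1
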